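import Cfsg.Agent.CosetCert.Pack

/-! Generated: the justifications. -/

namespace Cfsg.Agent.CosetCert.ThChain1

def justStore : Store := (.leaf 0x9c000270000680001b03011a00002f00003c000030000080c046800003000003000008080464000028000030000080804600000200000300000808045c000030000060000101008b00000400000c0000202011500000c0000001011400000d000004000c6400006c00001000318000019000004000c5c0000780000200062c0000340000100031500001bc00002e00000b400002c00000ac00002a00000004ec004ec004ec004ec004ec004ec004ec004ec004ec004ec004ec004ec004ec004ec004ec004ec004ec004ec004ec004ec004ec004ec004ec004ec004ec004ec004ec004ec004ec004ec004ec004ec004ec004ec004ec004ec004ec004ec004ec004ec004ec004ec004ec004ec0047800406003aa0034e002f2002970023c001f8001b20016c00126000e10009c00082000680004e000340001a000000000000000)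

end Cfsg.Agent.CosetCert.ThChain1
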