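import Cfsg.Agent.CosetCert.Pack

/-! Generated: the table. -/

namespace Cfsg.Agent.CosetCert.ThChain1

def edgeStore : Store := (.leaf 0x1b00001000002700002000002400002000002200002000002000002000001e00002000001c00002000000300000000002600002000002500002000002300002000002100002000001f00002000001d00002000000100000000002900001000001900001000001700001000001500001000001300001000001100001000001a00002000002800001000001800001000001600001000001400001000001200001000001000001000000200002000000f00000000000d00000000000b00000000000900000000000700000000000500000000000000001000000e00000000000c00000000000a00000000000800000000000600000000000400000)

def repStore : Store := (.leaf 0x2000000000001000000000000)

def treeStore : Store := (.leaf 0xd000000000006000000000000)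

end Cfsg.Agent.CosetCert.ThChain1
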