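import Cfsg.Agent.CosetCert.ThChain1.FactsData
import Cfsg.Agent.CosetCert.ThChain1.JustData
import Cfsg.Agent.CosetCert.ThChain1.TableData
import Cfsg.Prelude.Def_Spor_Th
import Cfsg.Agent.CosetCert.CoxExtra
import Cfsg.Agent.CosetCert.Pack

/-! Generated: the certificate. -/

set_option maxRecDepth 100000

namespace Cfsg.Agent.CosetCert.ThChain1

noncomputable def data : Data where
  K := 14
  n := 3
  M := 2
  Nf := 21
  nR := 42
  iv := fun x => if x < 7 then x + 7 else if x < 14 then x - 7 else x
  F := get48 factStore
  J := getVar justStore
  E := get48 edgeStore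
  L := get48 repStore
  P := get48 treeStore
  W := [
    [0, 0],
    [1, 1],
    [2, 2],
    [3, 3],
    [4, 4],
    [0, 1, 0, 1, 0, 1],
    [0, 4, 0, 4],
    [1, 2, 1, 2, 1, 2],
    [1, 3, 1, 3],
    [1, 4, 1, 4],
    [0, 10, 9, 10, 9, 10, 9, 10, 9],
    [2, 4, 2, 4],
    [3, 4, 3, 4, 3, 4],
    [1, 2, 3, 4, 1, 2, 3, 4, 1, 2, 3, 4, 1, 2, 3, 4, 1, 2, 3, 4, 1, 2, 3, 4, 1, 2, 3, 4, 1, 2, 3, 4],
    [5, 5, 5, 5, 5, 5, 5],
    [12, 7, 5, 0],
    [12, 8, 5, 1],
    [12, 9, 5, 2],
    [5, 3, 5, 3],
    [11, 12, 4, 12, 12, 11, 5, 5, 5],
    [6, 6, 6],
    [13, 7, 6, 0],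
    [13, 8, 6, 1],
    [13, 9, 6, 2],
    [13, 10, 6, 3],
    [13, 11, 6, 4],
    [13, 5, 6, 12, 12],
    [],
    [0, 7],
    [1, 8],
    [2, 9],
    [3, 10],
    [4, 11],
    [5, 12],
    [6, 13],
    [7, 0],
    [8, 1],
    [9, 2],
    [10, 3],
    [11, 4],
    [12, 5],
    [13, 6],
    [0],
    [1],
    [2],
    [3],
    [4],
    [5]]
  PW := fun k => Nat.land (Nat.shiftRight 0x180000000000000000000000000000000000000050000000000000000000000000000000000000010000000000000000000000000000000000000003000000000000000000000000000000000000000800000000000000000000000000000000000000100000000000000000000000000000000000003b80000000000000000000000000000000000000cd00000000000000000000000000000000000002b000000000000000000000000000000000000008b00000000000000000000000000000000000001a800000000000000000000000000000000000004900000000000000000000000000000000000000a00000000000000000000000000000000000001c700000000000000000000000000000000000006980000000000000000000000000000000000001850000000000000000000000000000000000000590000000000000000000000000000000000000143000000000000000000000000000000000000048800000000000000000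00000000000000000001010000000000000000000000000000000000000000000000000000000000000000000000000d69cce00000000000000000000000000000000000a7638000000000000000000000000000000000021d6e0000000000000000000000000000000000067538000000000000000000000000000000000011d2e0000000000000000000000000000000000027438000000000000000000000000000000000001ce7000000000000000000000000000018c6635a56b0000000000000000000000000000000000021886000000000000000000000000000000000006653400000000000000000000000000000000001192d000000000000000000000000000000000002643400000000000000000000000000000018c6318c6a4188a4188a4188a4188a4188a4188a4188a418800000000000000000000000000000000a4290a400000000000000000000000000000000000a328c0000000000000000000000000000a5a96a5a96100000000000000000000000000000000000a228800000000000000000000000000000000002088200000000000000000000000000000000188621880000000000000000000000000000000000284a100000000000000000000000000000000104411040000000000000000000000000000000000000a500000000000000000000000000000000000002100000000000000000000000000000000000000630000000000000000000000000000000000000108000000000000000000000000000000000000021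 (Nat.mul 158 k)) 0x3fffffffffffffffffffffffffffffffffffffff
  powers := [
    ([0, 0], 1),
    ([1, 1], 1),
    ([2, 2], 1),
    ([3, 3], 1),
    ([4, 4], 1),
    ([0, 1, 0, 1, 0, 1], 1),
    ([0, 4, 0, 4], 1),
    ([1, 2, 1, 2, 1, 2], 1),
    ([1, 3, 1, 3], 1),
    ([1, 4, 1, 4], 1),
    ([0, 10, 9, 10, 9, 10, 9, 10, 9], 1),
    ([2, 4, 2, 4], 1),
    ([3, 4, 3, 4, 3, 4], 1),
    ([1, 2, 3, 4, 1, 2, 3, 4, 1, 2, 3, 4, 1, 2, 3, 4, 1, 2, 3, 4, 1, 2, 3, 4, 1, 2, 3, 4, 1, 2, 3, 4], 1),
    ([5, 5, 5, 5, 5, 5, 5], 1),
    ([12, 7, 5, 0], 1),
    ([12, 8, 5, 1], 1),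
    ([12, 9, 5, 2], 1),
    ([5, 3, 5, 3], 1),
    ([11, 12, 4, 12, 12, 11, 5, 5, 5], 1),
    ([6, 6, 6], 1),
    ([13, 7, 6, 0], 1),
    ([13, 8, 6, 1], 1),
    ([13, 9, 6, 2], 1),
    ([13, 10, 6, 3], 1),
    ([13, 11, 6, 4], 1),
    ([13, 5, 6, 12, 12], 1),
    ([], 1),
    ([0, 7], 1),
    ([1, 8], 1),
    ([2, 9], 1),
    ([3, 10], 1),
    ([4, 11], 1),
    ([5, 12], 1),
    ([6, 13], 1),
    ([7, 0], 1),
    ([8, 1], 1),
    ([9, 2], 1),
    ([10, 3], 1),
    ([11, 4], 1),
    ([12, 5], 1),
    ([13, 6], 1)]

/-- The relators. -/
def relWords : List (List (Fin 7 × Bool)) := [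
    [(0, true), (0, true)],
    [(1, true), (1, true)],
    [(2, true), (2, true)],
    [(3, true), (3, true)],
    [(4, true), (4, true)],
    [(0, true), (1, true), (0, true), (1, true), (0, true), (1, true)],
    [(0, true), (4, true), (0, true), (4, true)],
    [(1, true), (2, true), (1, true), (2, true), (1, true), (2, true)],
    [(1, true), (3, true), (1, true), (3, true)],
    [(1, true), (4, true), (1, true), (4, true)],
    [(0, true), (3, false), (2, false), (3, false), (2, false), (3, false), (2, false), (3, false), (2, false)],
    [(2, true), (4, true), (2, true), (4, true)],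
    [(3, true), (4, true), (3, true), (4, true), (3, true), (4, true)],
    [(1, true), (2, true), (3, true), (4, true), (1, true), (2, true), (3, true), (4, true), (1, true), (2, true), (3, true), (4, true), (1, true), (2, true), (3, true), (4, true), (1, true), (2, true), (3, true), (4, true), (1, true), (2, true), (3, true), (4, true), (1, true), (2, true), (3, true), (4, true), (1, true), (2, true), (3, true), (4, true)],
    [(5, true), (5, true), (5, true), (5, true), (5, true), (5, true), (5, true)],
    [(5, false), (0, false), (5, true), (0, true)],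
    [(5, false), (1, false), (5, true), (1, true)],
    [(5, false), (2, false), (5, true), (2, true)],
    [(5, true), (3, true), (5, true), (3, true)],
    [(4, false), (5, false), (4, true), (5, false), (5, false), (4, false), (5, true), (5, true), (5, true)],
    [(6, true), (6, true), (6, true)],
    [(6, false), (0, false), (6, true), (0, true)],
    [(6, false), (1, false), (6, true), (1, true)],
    [(6, false), (2, false), (6, true), (2, true)],
    [(6, false), (3, false), (6, true), (3, true)],
    [(6, false), (4, false), (6, true), (4, true)],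
    [(6, false), (5, true), (6, true), (5, false), (5, false)]]

/-- The subgroup's generators. -/
def subLetters : List (Fin 7) := [0, 1, 2, 3, 4, 5]

/-- The numbering of the generators. -/
def enc (b : Fin 7) : Nat := b.val

/-- The generator of a number. -/
def dec (x : Nat) : Fin 7 × Bool := if x < 7 then (Fin.ofNat 7 x, true) else (Fin.ofNat 7 x, false)

/-- The generators among those of the Thompson group. -/
def ren : Fin 7 → Cfsg.Spor.Th.Gen
  | ⟨0, _⟩ => .a
  | ⟨1, _⟩ => .b
  | ⟨2, _⟩ => .c
  | ⟨3, _⟩ => .d
  | ⟨4, _⟩ => .e
  | ⟨5, _⟩ => .s
  | ⟨6, _⟩ => .t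

end Cfsg.Agent.CosetCert.ThChain1
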