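import Cfsg.Agent.CosetCert.Pack

/-! Generated: the facts of the log. -/

namespace Cfsg.Agent.CosetCert.ThChain1

def factStore : Store := (.leaf 0x500001000010500002000020b00002000020a00002000020900002000020800002000020700002000020600002000010400001000010300001000010200001000010100001000010000001000010500000000000400000000000300000000000200000000000100000000000000000000000d0000200000060000100000)

end Cfsg.Agent.CosetCert.ThChain1
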